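import Groth.Prelude.Def_RDer
import Mathlib.Algebra.Homology.ShortComplex.Abelian
import Mathlib.CategoryTheory.Preadditive.Injective.Resolution

/-!
# The edge map `(R^q Ψ) (Φ X) ⟶ R^q (Φ ⋙ Ψ) X` when `X` is `Φ`-acyclic
-/

set_option backward.isDefEq.respectTransparency false
set_option backward.isDefEq.respectTransparency.types false

universe v₁ v₂ v₃ u₁ u₂ u₃

open CategoryTheory CategoryTheory.Limits HomologicalComplex

namespace GrothLib.Edge19

variable {A : Type u₁} [Category.{v₁} A] [Abelian A] [HasInjectiveResolutions A]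
  {B : Type u₂} [Category.{v₂} B] [Abelian B] [HasInjectiveResolutions B]
  {C : Type u₃} [Category.{v₃} C] [Abelian C]

omit [HasInjectiveResolutions B] in
/-- A left exact functor maps an injective resolution of an acyclic object to a resolution. -/
theorem quasiIso_mapAug (Φ : A ⥤ B) [Φ.Additive] [PreservesFiniteLimits Φ] (X : A)
    (h : ∀ q : ℕ, 0 < q → IsZero ((Φ.rightDerived q).obj X)) :
    QuasiIso (RDer.mapAug Φ (injectiveResolution X).ι) := by
  let I := injectiveResolution X
  have : QuasiIso ((Φ.mapHomologicalComplex (ComplexShape.up ℕ)).map I.ι) := by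
    rw [quasiIso_iff]
    rintro (_ | n)
    · rw [CochainComplex.quasiIsoAt₀_iff, ShortComplex.quasiIso_iff_of_zeros]
      rotate_left 1
      · exact Functor.map_zero _ _ _
      · exact (congrArg Φ.map (single_obj_d _ _ _ _ _)).trans (Functor.map_zero _ _ _)
      · exact (congrArg Φ.map (I.cocomplex.shape 0 0 (by simp))).trans (Functor.map_zero _ _ _)
      have hmono : Mono (I.ι.f 0) := inferInstance
      refine ⟨((RDer.res_exact₀ I.cocomplex I.ι).map_of_mono_of_preservesKernel Φ hmono inferInstance), ?_⟩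
      exact inferInstanceAs (Mono (Φ.map (I.ι.f 0)))
    · rw [quasiIsoAt_iff_exactAt']
      · exact (((CochainComplex.exactAt_succ_single_obj (Φ.obj X) n).of_iso
          ((HomologicalComplex.singleMapHomologicalComplex Φ (ComplexShape.up ℕ) 0).app X).symm))
      · rw [exactAt_iff_isZero_homology]
        exact (h (n + 1) (by omega)).of_iso (I.isoRightDerivedObj Φ (n + 1)).symm
  exact quasiIso_comp _ _

theorem isIso_edgeIn (Φ : A ⥤ B) [Φ.Additive] [Φ.PreservesInjectiveObjects] [PreservesFiniteLimits Φ]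
    (Ψ : B ⥤ C) [Ψ.Additive] (X : A) (h : ∀ q : ℕ, 0 < q → IsZero ((Φ.rightDerived q).obj X)) (q : ℕ) :
    IsIso (RDer.edgeIn Φ Ψ q X) := by
  let J := injectiveResolution (Φ.obj X)
  let P : InjectiveResolution (Φ.obj X) :=
    { cocomplex := (Φ.mapHomologicalComplex _).obj (injectiveResolution X).cocomplex
      ι := RDer.mapAug Φ (injectiveResolution X).ι
      quasiIso := quasiIso_mapAug Φ X h }
  let φ : J.cocomplex ⟶ P.cocomplex := RDer.descToInjectives (𝟙 (Φ.obj X)) J.cocomplex J.ι P.cocomplex P.ι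
  have hφ : J.ι ≫ φ = (CochainComplex.single₀ B).map (𝟙 (Φ.obj X)) ≫ P.ι := by
    refine HomologicalComplex.from_single_hom_ext ?_
    rw [comp_f, comp_f, RDer.ι_descToInjectives_f_zero]
    simp
  let ψ : P.cocomplex ⟶ J.cocomplex := InjectiveResolution.desc (𝟙 (Φ.obj X)) J P
  have hψ : P.ι ≫ ψ = (CochainComplex.single₀ B).map (𝟙 (Φ.obj X)) ≫ J.ι :=
    InjectiveResolution.desc_commutes _ _ _
  let e : HomotopyEquiv J.cocomplex P.cocomplex :=
    { hom := φ
      inv := ψ
      homotopyHomInvId := InjectiveResolution.descHomotopy (𝟙 (Φ.obj X)) (φ ≫ ψ) (𝟙 _)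
        (by rw [← Category.assoc, hφ]; simp only [CategoryTheory.Functor.map_id, Category.id_comp] at hψ ⊢; exact hψ)
        (by simp)
      homotopyInvHomId := InjectiveResolution.descHomotopy (𝟙 (Φ.obj X)) (ψ ≫ φ) (𝟙 _)
        (by rw [← Category.assoc, hψ]; simp only [CategoryTheory.Functor.map_id, Category.id_comp] at hφ ⊢; exact hφ)
        (by simp) }
  have : IsIso ((HomologicalComplex.homologyFunctor C _ q).map ((Ψ.mapHomologicalComplex _).map φ)) :=
    (Ψ.mapHomotopyEquiv e).toHomologyIso q |>.isIso_hom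
  dsimp only [RDer.edgeIn]
  infer_instance

end GrothLib.Edge19
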