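import Groth.Prelude.Def_RDer
import Mathlib.CategoryTheory.Preadditive.Injective.Basic
import Mathlib.Algebra.Homology.ShortComplex.Abelian
import Mathlib.CategoryTheory.Abelian.Refinements

/-!
# The comparison `H^n (Ψ K) ⟶ Ψ (H^n K)` below a range of injective terms
-/

set_option backward.isDefEq.respectTransparency false
set_option backward.isDefEq.respectTransparency.types false

universe v₁ v₂ u₁ u₂

open CategoryTheory CategoryTheory.Limits HomologicalComplex

namespace GrothLib.Edge19

variable {B : Type u₁} [Category.{v₁} B] [Abelian B] {C : Type u₂} [Category.{v₂} C] [Abelian C]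
  (Ψ : B ⥤ C) [Ψ.Additive] [PreservesFiniteLimits Ψ] (K : CochainComplex B ℕ)

theorem isIso_cyclesComparison (n : ℕ) : IsIso (RDer.cyclesComparison Ψ K n) := by
  let M := (Ψ.mapHomologicalComplex (ComplexShape.up ℕ)).obj K
  refine ⟨⟨M.liftCycles (Ψ.map (K.iCycles n)) _ rfl ?_, ?_, ?_⟩⟩
  · change Ψ.map (K.iCycles n) ≫ Ψ.map (K.d _ _) = 0
    rw [← Ψ.map_comp, iCycles_d, Ψ.map_zero]
  · rw [← cancel_mono (M.iCycles n)]
    simp [M]
  · have : Mono (Ψ.map (K.iCycles n)) := inferInstance
    rw [← cancel_mono (Ψ.map (K.iCycles n)), Category.assoc, RDer.cyclesComparison_i]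
    simp [M]

lemma iCycles_toCycles (m : ℕ) : K.iCycles m ≫ K.toCycles m (m + 1) = 0 := by
  rw [← cancel_mono (K.iCycles (m + 1)), Category.assoc, toCycles_i, iCycles_d, zero_comp]

lemma exact_iCycles_toCycles (m : ℕ) :
    (ShortComplex.mk (K.iCycles m) (K.toCycles m (m + 1)) (iCycles_toCycles K m)).Exact := by
  let S' := ShortComplex.mk (K.iCycles m) (K.d m (m + 1)) (K.iCycles_d m (m + 1))
  let f : ShortComplex.mk (K.iCycles m) (K.toCycles m (m + 1)) (iCycles_toCycles K m) ⟶ S' :=
    { τ₁ := 𝟙 _, τ₂ := 𝟙 _, τ₃ := K.iCycles (m + 1) }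
  have : Epi f.τ₁ := inferInstanceAs (Epi (𝟙 _))
  have : IsIso f.τ₂ := inferInstanceAs (IsIso (𝟙 _))
  have : Mono f.τ₃ := inferInstanceAs (Mono (K.iCycles (m + 1)))
  exact (ShortComplex.exact_iff_of_epi_of_isIso_of_mono f).2
    (ShortComplex.exact_of_f_is_kernel _ (K.cyclesIsKernel m (m + 1) (by simp)))

omit [Ψ.Additive] [PreservesFiniteLimits Ψ] in
/-- The cycles below a range of exactness with injective terms are injective. -/
theorem injective_cycles (n : ℕ) (hK : ∀ i < n, Injective (K.X i))
    (hH : ∀ i < n, IsZero (K.homology i)) : ∀ i < n, Injective (K.cycles i) := by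
  intro i
  induction i with
  | zero =>
    intro hi
    have : IsIso (K.homologyπ 0) := K.isIso_homologyπ 0 0 (by simp) (by simp)
    exact Injective.of_iso (asIso (K.homologyπ 0)).symm (Injective.of_iso (hH 0 hi).isoZero.symm inferInstance)
  | succ i ih =>
    intro hi
    have h₁ : Injective (K.cycles i) := ih (by omega)
    have h₂ : Injective (K.X i) := hK i (by omega)
    have he : Epi (K.toCycles i (i + 1)) := by
      have hex : (ShortComplex.mk (K.toCycles i (i + 1)) (K.homologyπ (i + 1))
          (K.toCycles_comp_homologyπ i (i + 1))).Exact :=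
        ShortComplex.exact_of_g_is_cokernel _ (K.homologyIsCokernel i (i + 1) (by simp))
      exact hex.epi_f ((hH (i + 1) hi).eq_of_tgt _ _)
    have hS : (ShortComplex.mk (K.iCycles i) (K.toCycles i (i + 1)) (iCycles_toCycles K i)).ShortExact :=
      { exact := exact_iCycles_toCycles K i }
    let σ := hS.splittingOfInjective
    exact Retract.injective ⟨σ.s, K.toCycles i (i + 1), σ.s_g⟩

/-- Below a range of exactness with injective terms, `H^n` commutes with a left exact functor. -/
theorem isIso_homologyComparison (n : ℕ) (hK : ∀ i < n, Injective (K.X i))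
    (hH : ∀ i < n, IsZero (K.homology i)) : IsIso (RDer.homologyComparison Ψ K n) := by
  have hcyc := isIso_cyclesComparison Ψ K n
  let M := (Ψ.mapHomologicalComplex (ComplexShape.up ℕ)).obj K
  rcases Nat.eq_zero_or_pos n with rfl | hn
  · have : IsIso (K.homologyπ 0) := K.isIso_homologyπ 0 0 (by simp) (by simp)
    have : IsIso (M.homologyπ 0) := M.isIso_homologyπ 0 0 (by simp) (by simp)
    have : IsIso (M.homologyπ 0 ≫ RDer.homologyComparison Ψ K 0) := by
      rw [RDer.homologyπ_homologyComparison]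
      infer_instance
    exact IsIso.of_isIso_comp_left (M.homologyπ 0) _
  obtain ⟨m, rfl⟩ : ∃ m, n = m + 1 := ⟨n - 1, by omega⟩
  have hZ : Injective (K.cycles m) := injective_cycles K (m + 1) hK hH m (by omega)
  have hX : Injective (K.X m) := hK m (by omega)
  let t := K.toCycles m (m + 1)
  -- factor `t` through its image
  let p := Abelian.factorThruImage t
  let i := Abelian.image.ι t
  have hpi : p ≫ i = t := Abelian.image.fac t
  have hS₁ : (ShortComplex.mk (K.iCycles m) p (by
      rw [← cancel_mono i, Category.assoc, hpi, zero_comp, iCycles_toCycles])).ShortExact :=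
    { exact := by
        let S := ShortComplex.mk (K.iCycles m) p (by
          rw [← cancel_mono i, Category.assoc, hpi, zero_comp, iCycles_toCycles])
        let f : S ⟶ ShortComplex.mk (K.iCycles m) t (iCycles_toCycles K m) :=
          { τ₁ := 𝟙 _, τ₂ := 𝟙 _, τ₃ := i }
        have : Epi f.τ₁ := inferInstanceAs (Epi (𝟙 _))
        have : IsIso f.τ₂ := inferInstanceAs (IsIso (𝟙 _))
        have : Mono f.τ₃ := inferInstanceAs (Mono i)
        exact (ShortComplex.exact_iff_of_epi_of_isIso_of_mono f).2 (exact_iCycles_toCycles K m) }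
  let σ₁ := hS₁.splittingOfInjective
  have hI : Injective (Abelian.image t) := Retract.injective ⟨σ₁.s, p, σ₁.s_g⟩
  have hS₂ : (ShortComplex.mk i (K.homologyπ (m + 1)) (by
      rw [← cancel_epi p, ← Category.assoc, hpi, comp_zero]
      exact K.toCycles_comp_homologyπ m (m + 1))).ShortExact :=
    { exact := by
        let S := ShortComplex.mk i (K.homologyπ (m + 1)) (by
          rw [← cancel_epi p, ← Category.assoc, hpi, comp_zero]
          exact K.toCycles_comp_homologyπ m (m + 1))
        let f : ShortComplex.mk t (K.homologyπ (m + 1)) (K.toCycles_comp_homologyπ m (m + 1)) ⟶ S :=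
          { τ₁ := p, τ₂ := 𝟙 _, τ₃ := 𝟙 _ }
        have : Epi f.τ₁ := inferInstanceAs (Epi p)
        have : IsIso f.τ₂ := inferInstanceAs (IsIso (𝟙 _))
        have : Mono f.τ₃ := inferInstanceAs (Mono (𝟙 _))
        exact (ShortComplex.exact_iff_of_epi_of_isIso_of_mono f).1
          (ShortComplex.exact_of_g_is_cokernel _ (K.homologyIsCokernel m (m + 1) (by simp)))
      mono_f := inferInstanceAs (Mono i) }
  let σ₂ := hS₂.splittingOfInjective
  have : IsSplitEpi (Ψ.map (K.homologyπ (m + 1))) :=
    IsSplitEpi.mk' ⟨Ψ.map σ₂.s, by rw [← Ψ.map_comp, σ₂.s_g, Ψ.map_id]⟩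
  have hepi : Epi (M.homologyπ (m + 1) ≫ RDer.homologyComparison Ψ K (m + 1)) := by
    rw [RDer.homologyπ_homologyComparison]
    infer_instance
  have : Epi (RDer.homologyComparison Ψ K (m + 1)) := epi_of_epi (M.homologyπ (m + 1)) _
  have : Mono (RDer.homologyComparison Ψ K (m + 1)) := by
    refine Preadditive.mono_of_cancel_zero _ fun {W} g hg => ?_
    obtain ⟨W', e, he, z, hz⟩ := surjective_up_to_refinements_of_epi (M.homologyπ (m + 1)) g
    rw [← cancel_epi e, comp_zero, hz]
    have h0 : z ≫ RDer.cyclesComparison Ψ K (m + 1) ≫ Ψ.map (K.homologyπ (m + 1)) = 0 := by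
      rw [← RDer.homologyπ_homologyComparison, ← Category.assoc, ← hz, Category.assoc, hg, comp_zero]
    -- lift along the split sequences
    have hex : (z ≫ RDer.cyclesComparison Ψ K (m + 1)) ≫ Ψ.map σ₂.r ≫ Ψ.map σ₁.s ≫
        M.toCycles m (m + 1) ≫ RDer.cyclesComparison Ψ K (m + 1) =
          z ≫ RDer.cyclesComparison Ψ K (m + 1) := by
      have h1 : M.toCycles m (m + 1) ≫ RDer.cyclesComparison Ψ K (m + 1) = Ψ.map t := by
        rw [← cancel_mono (Ψ.map (K.iCycles (m + 1))), Category.assoc, RDer.cyclesComparison_i,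
          toCycles_i, ← Ψ.map_comp, toCycles_i]
        rfl
      erw [h1]
      rw [← Ψ.map_comp, ← Ψ.map_comp]
      have hst : σ₁.s ≫ t = i := (congrArg (σ₁.s ≫ ·) hpi.symm).trans
        ((Category.assoc _ _ _).symm.trans ((congrArg (· ≫ i) σ₁.s_g).trans (Category.id_comp i)))
      have h2 : σ₂.r ≫ σ₁.s ≫ t = 𝟙 _ - K.homologyπ (m + 1) ≫ σ₂.s := by
        rw [hst, eq_sub_iff_add_eq]
        exact σ₂.id
      rw [h2, Ψ.map_sub, Ψ.map_id, Ψ.map_comp, Preadditive.comp_sub, Category.comp_id,
        Category.assoc, reassoc_of% h0, zero_comp, sub_zero]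
    have hz' : z = ((z ≫ RDer.cyclesComparison Ψ K (m + 1)) ≫ Ψ.map σ₂.r ≫ Ψ.map σ₁.s) ≫
        M.toCycles m (m + 1) := by
      rw [← cancel_mono (RDer.cyclesComparison Ψ K (m + 1))]
      simpa only [Category.assoc] using hex.symm
    rw [hz']
    exact (Category.assoc _ _ _).trans
      ((congrArg (_ ≫ ·) (M.toCycles_comp_homologyπ m (m + 1))).trans comp_zero)
  exact isIso_of_mono_of_epi _

end GrothLib.Edge19
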